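import Mathlib.LinearAlgebra.Dimension.Finrank
import Mathlib.LinearAlgebra.FiniteDimensional.Basic
import Mathlib.LinearAlgebra.Projection
import Mathlib.LinearAlgebra.Basis.Prod
import Mathlib.RingTheory.Nilpotent.Basic
import Mathlib.LinearAlgebra.Pi
import Mathlib.LinearAlgebra.Dual.Lemmas

/-!
# A nilpotent endomorphism extends to an `sl₂` triple with an integral weight basis
-/

set_option autoImplicit false

namespace Groth.L11.Weitzenbock

universe u v

variable {k : Type u} [Field k] {V : Type v} [AddCommGroup V] [Module k V]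

open Finset

section Cyclic

variable (e : Module.End k V) (v : V) (lam : Module.Dual k V) (d : ℕ)

/-- The chain `eⁱ v`. -/
noncomputable def chain : (Fin d → k) →ₗ[k] V :=
  ∑ i : Fin d, (LinearMap.proj i).smulRight ((e ^ (i : ℕ)) v)

lemma chain_apply (c : Fin d → k) : chain e v d c = ∑ i : Fin d, c i • (e ^ (i : ℕ)) v := by
  simp [chain]

/-- The coordinates `lam (eⁱ x)`. -/
noncomputable def cochain : V →ₗ[k] (Fin d → k) :=
  LinearMap.pi fun i : Fin d ↦ lam ∘ₗ (e ^ (i : ℕ))

lemma cochain_apply (x : V) (i : Fin d) : cochain e lam d x i = lam ((e ^ (i : ℕ)) x) := rfl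

variable {e v lam d}

lemma cochain_comp_chain_injective (hd : e ^ d = 0) (hlam : lam ((e ^ (d - 1)) v) = 1) :
    Function.Injective (cochain e lam d ∘ₗ chain e v d) := by
  classical
  rw [injective_iff_map_eq_zero]
  intro c hc
  by_contra hne
  obtain ⟨i, hi⟩ : ∃ i, c i ≠ 0 := Function.ne_iff.mp hne
  set s := (Finset.univ.filter fun i ↦ c i ≠ 0)
  have hs : s.Nonempty := ⟨i, by simp [s, hi]⟩
  set j := s.min' hs
  have hj : c j ≠ 0 := (Finset.mem_filter.mp (s.min'_mem hs)).2
  have hlt : ∀ i, i < j → c i = 0 := fun i hij ↦ by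
    by_contra hci
    exact absurd (s.min'_le i (by simp [s, hci])) (not_le.mpr hij)
  have hjd := j.isLt
  have h := congrFun hc ⟨d - 1 - j, by omega⟩
  rw [LinearMap.comp_apply, cochain_apply, chain_apply, map_sum, map_sum, Pi.zero_apply,
    Finset.sum_eq_single j] at h
  · rw [map_smul, map_smul, ← Module.End.mul_apply, ← pow_add,
      show (⟨d - 1 - (j : ℕ), by omega⟩ : Fin d).val + (j : ℕ) = d - 1 by simp; omega, hlam,
      smul_eq_mul, mul_one] at h
    exact hj h
  · intro i _ hij
    rcases lt_or_gt_of_ne hij with h' | h'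
    · simp [hlt i h']
    · rw [map_smul, map_smul, ← Module.End.mul_apply, ← pow_add, pow_eq_zero_of_le _ hd]
      · simp
      · have : (j : ℕ) < (i : ℕ) := h'
        simp only
        omega
  · simp

end Cyclic

/-- A nilpotent endomorphism is part of an `sl₂` triple with an integral weight basis. -/
theorem exists_triple (N : ℕ) : ∀ (V : Type v) [AddCommGroup V] [Module k V] [FiniteDimensional k V]
    (e : Module.End k V), IsNilpotent e → Module.finrank k V ≤ N →
    ∃ (ι : Type) (_ : Fintype ι) (_ : DecidableEq ι) (b : Module.Basis ι k V) (w : ι → ℤ)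
      (f : Module.End k V),
      (∀ i, e (f (b i)) - f (e (b i)) = (w i : k) • b i) ∧
      (∀ i j, b.repr (e (b i)) j ≠ 0 → w j = w i + 2) ∧
      (∀ i j, b.repr (f (b i)) j ≠ 0 → w j = w i - 2) := by
  induction N with
  | zero =>
    intro V _ _ _ e _ hN
    haveI : Subsingleton V := Module.finrank_zero_iff.mp (Nat.le_zero.mp hN)
    exact ⟨Empty, inferInstance, inferInstance, Module.Basis.empty V, Empty.elim, 0,
      fun i ↦ i.elim, fun i ↦ i.elim, fun i ↦ i.elim⟩
  | succ N ih =>
    intro V _ _ _ e he hN
    by_cases hV : Subsingleton V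
    · exact ⟨Empty, inferInstance, inferInstance, Module.Basis.empty V, Empty.elim, 0,
        fun i ↦ i.elim, fun i ↦ i.elim, fun i ↦ i.elim⟩
    rw [not_subsingleton_iff_nontrivial] at hV
    classical
    -- the longest chain
    let d := nilpotencyClass e
    have hd : e ^ d = 0 := pow_nilpotencyClass he
    have hd0 : d ≠ 0 := (pos_nilpotencyClass_iff.mpr he).ne'
    have hd1 : e ^ (d - 1) ≠ 0 := pow_pred_nilpotencyClass he
    obtain ⟨v, hv⟩ : ∃ v, (e ^ (d - 1)) v ≠ 0 := by
      by_contra h
      push Not at h
      exact hd1 (LinearMap.ext h)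
    obtain ⟨lam, hlam⟩ := Module.Projective.exists_dual_eq_one k hv
    have hinj := cochain_comp_chain_injective hd hlam
    have hbij : Function.Bijective (cochain e lam d ∘ₗ chain e v d) :=
      ⟨hinj, LinearMap.injective_iff_surjective.mp hinj⟩
    have hcinj : Function.Injective (chain e v d) := fun a b h ↦ hinj (by simp [h])
    set P := LinearMap.range (chain e v d)
    set K := LinearMap.ker (cochain e lam d)
    have hcompl : IsCompl P K := by
      constructor
      · rw [Submodule.disjoint_def]
        rintro _ ⟨c, rfl⟩ hx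
        have : c = 0 := hinj (by rw [map_zero]; exact hx)
        simp [this]
      · rw [codisjoint_iff, Submodule.eq_top_iff']
        intro x
        obtain ⟨c, hc⟩ := hbij.2 (cochain e lam d x)
        rw [← sub_add_cancel x (chain e v d c)]
        refine Submodule.add_mem _ (Submodule.mem_sup_right ?_) (Submodule.mem_sup_left ⟨c, rfl⟩)
        show cochain e lam d _ = 0
        rw [map_sub, ← hc, LinearMap.comp_apply, sub_self]
    have hKe : ∀ x ∈ K, e x ∈ K := fun x hx ↦ by
      refine funext fun i ↦ ?_
      show lam ((e ^ (i : ℕ)) (e x)) = 0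
      rw [← Module.End.mul_apply, ← pow_succ]
      rcases Nat.lt_or_ge ((i : ℕ) + 1) d with h | h
      · exact congrFun hx ⟨_, h⟩
      · rw [pow_eq_zero_of_le h hd, LinearMap.zero_apply, map_zero]
    let eK : Module.End k K := e.restrict hKe
    have heK : IsNilpotent eK := ⟨d, LinearMap.ext fun x ↦ Subtype.ext (by simp [eK, Module.End.pow_restrict, hd])⟩
    have hKrank : Module.finrank k K ≤ N := by
      have h := Submodule.finrank_add_eq_of_isCompl hcompl
      have hP : Module.finrank k P = d := by
        rw [LinearMap.finrank_range_of_inj hcinj, Module.finrank_fin_fun]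
      omega
    obtain ⟨ι, _, _, bK, wK, fK, h1K, h2K, h3K⟩ := ih K eK heK hKrank
    -- the basis
    let bP : Module.Basis (Fin d) k P :=
      (Pi.basisFun k (Fin d)).map (LinearEquiv.ofInjective (chain e v d) hcinj)
    let E := P.prodEquivOfIsCompl K hcompl
    let b : Module.Basis (Fin d ⊕ ι) k V := (bP.prod bK).map E
    have hbl : ∀ i : Fin d, b (Sum.inl i) = (e ^ (i : ℕ)) v := fun i ↦ by
      have h : ((LinearEquiv.ofInjective (chain e v d) hcinj) (Pi.single i 1) : V) = (e ^ (i : ℕ)) v := by
        rw [LinearEquiv.ofInjective_apply, chain_apply]; simp [Pi.single_apply]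
      have hb : b (Sum.inl i) = (bP i : V) := by simp [b, E]
      have hp : bP i = LinearEquiv.ofInjective (chain e v d) hcinj (Pi.single i 1) := by simp [bP]
      rw [hb, hp]
      exact h
    have hbr : ∀ i : ι, b (Sum.inr i) = (bK i : V) := fun i ↦ by simp [b, E]
    let w : Fin d ⊕ ι → ℤ := Sum.elim (fun i ↦ 2 * (i : ℤ) - ((d : ℤ) - 1)) wK
    let f : Module.End k V := b.constr k (Sum.elim
      (fun i : Fin d ↦ ((i : ℕ) * (d - (i : ℕ)) : k) • (e ^ ((i : ℕ) - 1)) v)
      (fun i ↦ (fK (bK i) : V)))
    have hfl : ∀ n, n < d → f ((e ^ n) v) = ((n : k) * (d - (n : k))) • (e ^ (n - 1)) v := fun n hn ↦ by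
      have h := hbl ⟨n, hn⟩
      rw [← show b (Sum.inl ⟨n, hn⟩) = (e ^ n) v from h, show f (b (Sum.inl ⟨n, hn⟩)) = _ from
        b.constr_basis k _ _]
      simp
    have hfK : ∀ x : K, f (x : V) = (fK x : V) := fun x ↦ by
      have : f ∘ₗ K.subtype = K.subtype ∘ₗ fK := bK.ext fun i ↦ by
        simp only [LinearMap.comp_apply, Submodule.coe_subtype, ← hbr, f, b.constr_basis, Sum.elim_inr]
      exact LinearMap.congr_fun this x
    have hmem : ∀ n, n < d → ∃ j : Fin d, (j : ℕ) = n ∧ (e ^ n) v = b (Sum.inl j) :=
      fun n hn ↦ ⟨⟨n, hn⟩, rfl, (hbl ⟨n, hn⟩).symm⟩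
    refine ⟨Fin d ⊕ ι, inferInstance, inferInstance, b, w, f, ?_, ?_, ?_⟩
    · rintro (i | i)
      · rw [hbl, hfl _ i.isLt, map_smul, ← Module.End.mul_apply e (e ^ (i : ℕ)), ← pow_succ']
        have hef : (((i : ℕ) : k) * (d - (i : ℕ))) • e ((e ^ ((i : ℕ) - 1)) v) =
            (((i : ℕ) : k) * (d - (i : ℕ))) • (e ^ (i : ℕ)) v := by
          rcases Nat.eq_zero_or_pos (i : ℕ) with h | h
          · simp [h]
          · rw [← Module.End.mul_apply, ← pow_succ', Nat.sub_add_cancel h]
        rw [hef]
        rcases Nat.lt_or_ge ((i : ℕ) + 1) d with h | h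
        · rw [hfl _ h, Nat.add_sub_cancel, ← sub_smul]
          congr 1
          simp only [w, Sum.elim_inl]
          push_cast
          ring
        · rw [pow_eq_zero_of_le h hd, LinearMap.zero_apply, map_zero, sub_zero]
          congr 1
          have : (d : k) = (i : ℕ) + 1 := by
            rw [← Nat.cast_one, ← Nat.cast_add]; congr 1; omega
          simp only [w, Sum.elim_inl, this]
          push_cast
          rw [this]
          ring
      · have he' : ∀ x : K, e (x : V) = (eK x : V) := fun _ ↦ rfl
        rw [hbr, hfK, he', he', hfK]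
        have := congrArg Subtype.val (h1K i)
        simpa [w, eK] using this
    · rintro (i | i) j hj
      · rw [hbl, ← Module.End.mul_apply, ← pow_succ'] at hj
        rcases Nat.lt_or_ge ((i : ℕ) + 1) d with h | h
        · obtain ⟨j', hj', he'⟩ := hmem _ h
          rw [he', b.repr_self, Finsupp.single_apply_ne_zero] at hj
          rw [hj.1]
          simp only [w, Sum.elim_inl, hj']
          push_cast
          ring
        · rw [pow_eq_zero_of_le h hd, LinearMap.zero_apply, map_zero] at hj
          simp at hj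
      · rw [hbr, show e (bK i : V) = (eK (bK i) : V) from rfl] at hj
        rcases j with j | j
        · exfalso; revert hj; simp [b, E]
        · simp only [w, Sum.elim_inr]
          refine h2K i j ?_
          revert hj; simp [b, E]
    · rintro (i | i) j hj
      · rw [hbl, hfl _ i.isLt, map_smul, Finsupp.smul_apply, smul_ne_zero_iff] at hj
        have hi : (i : ℕ) ≠ 0 := fun h ↦ hj.1 (by simp [h])
        obtain ⟨j', hj', he'⟩ := hmem ((i : ℕ) - 1) (by omega)
        rw [he', b.repr_self, Finsupp.single_apply_ne_zero] at hj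
        rw [hj.2.1]
        simp only [w, Sum.elim_inl, hj']
        push_cast [Nat.cast_sub (Nat.one_le_iff_ne_zero.mpr hi)]
        ring
      · rw [hbr, hfK] at hj
        rcases j with j | j
        · exfalso; revert hj; simp [b, E]
        · simp only [w, Sum.elim_inr]
          refine h3K i j ?_
          revert hj; simp [b, E]

end Groth.L11.Weitzenbock
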