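import Mathlib.RingTheory.MvPolynomial.WeightedHomogeneous
import Mathlib.RingTheory.MvPolynomial.Basic
import Mathlib.Algebra.MvPolynomial.Derivation
import Mathlib.RingTheory.Derivation.Lie
import Mathlib.RingTheory.Artinian.Module
import Mathlib.RingTheory.Polynomial.Basic
import Mathlib.RingTheory.Adjoin.FG
import Mathlib.LinearAlgebra.FiniteDimensional.Basic
import Mathlib.Tactic.LinearCombination
import Mathlib.Tactic.Module

/-!
# Invariants of a linear `sl₂`-action on a polynomial ring in characteristic zero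
-/

set_option autoImplicit false

open MvPolynomial Finset

namespace Groth.L11.Weitzenbock

universe u v

variable {k : Type u} [Field k] {σ : Type v}

section Weights

/-- The derivation multiplying a monomial by its weight. -/
noncomputable def wDer (w : σ → ℤ) : Derivation k (MvPolynomial σ k) (MvPolynomial σ k) :=
  mkDerivation k fun i ↦ (w i : k) • X i

lemma wDer_monomial (w : σ → ℤ) (d : σ →₀ ℕ) (c : k) :
    wDer w (monomial d c) = (Finsupp.weight w d : k) • monomial d c := by
  classical
  rw [wDer, mkDerivation_monomial, Finsupp.weight_apply, Finsupp.sum, Finsupp.sum, Int.cast_sum,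
    Finset.smul_sum, Finset.sum_smul]
  refine Finset.sum_congr rfl fun i hi ↦ ?_
  rw [X, smul_monomial, smul_eq_mul, smul_eq_mul, monomial_mul, smul_monomial, smul_monomial,
    tsub_add_cancel_of_le (Finsupp.single_le_iff.mpr (Nat.one_le_iff_ne_zero.mpr
      (Finsupp.mem_support_iff.mp hi)))]
  simp only [nsmul_eq_mul, smul_eq_mul, mul_one]
  push_cast
  ring_nf

lemma wDer_of_isWeightedHomogeneous {w : σ → ℤ} {P : MvPolynomial σ k} {μ : ℤ}
    (h : IsWeightedHomogeneous w P μ) : wDer w P = (μ : k) • P := by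
  conv_lhs => rw [P.as_sum, map_sum]
  conv_rhs => rw [P.as_sum, Finset.smul_sum]
  exact Finset.sum_congr rfl fun d hd ↦ by rw [wDer_monomial, h (mem_support_iff.mp hd)]

lemma coeff_wDer (w : σ → ℤ) (P : MvPolynomial σ k) (d : σ →₀ ℕ) :
    coeff d (wDer w P) = (Finsupp.weight w d : k) * coeff d P := by
  classical
  induction P using MvPolynomial.induction_on' with
  | monomial e c =>
    rw [wDer_monomial, coeff_smul, coeff_monomial, smul_eq_mul]
    split_ifs with he
    · rw [he]
    · rw [mul_zero, mul_zero]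
  | add p q hp hq => rw [map_add, coeff_add, coeff_add, hp, hq, mul_add]

lemma isWeightedHomogeneous_of_wDer [CharZero k] {w : σ → ℤ} {P : MvPolynomial σ k} {μ : ℤ}
    (h : wDer w P = (μ : k) • P) : IsWeightedHomogeneous w P μ := fun d hd ↦ by
  have h1 := congrArg (coeff d) h
  rw [coeff_wDer, coeff_smul, smul_eq_mul] at h1
  exact_mod_cast mul_right_cancel₀ hd h1

lemma wDer_neg (w : σ → ℤ) (P : MvPolynomial σ k) :
    wDer (fun i ↦ -w i) P = -wDer w P := by
  have h : wDer (k := k) (fun i ↦ -w i) = -wDer w := derivation_ext fun i ↦ by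
    simp [wDer, mkDerivation_X]
  rw [h, Derivation.neg_apply]

/-- A derivation shifting the weight of the variables by `c` shifts every weight by `c`. -/
lemma shift_of_X [CharZero k] (T : Derivation k (MvPolynomial σ k) (MvPolynomial σ k))
    (w : σ → ℤ) (c : ℤ) (hT : ∀ i, IsWeightedHomogeneous w (T (X i)) (w i + c))
    {P : MvPolynomial σ k} {μ : ℤ} (hP : IsWeightedHomogeneous w P μ) :
    IsWeightedHomogeneous w (T P) (μ + c) := by
  have hbr : ⁅wDer w, T⁆ = (c : k) • T := derivation_ext fun i ↦ by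
    rw [Derivation.commutator_apply, wDer_of_isWeightedHomogeneous (hT i), Derivation.smul_apply]
    conv_lhs => arg 2; rw [show wDer w (X i) = (w i : k) • X i from mkDerivation_X k _ i, Derivation.map_smul]
    rw [← sub_smul]; push_cast; ring_nf
  refine isWeightedHomogeneous_of_wDer ?_
  have h := congrArg (fun D : Derivation k (MvPolynomial σ k) (MvPolynomial σ k) ↦ D P) hbr
  simp only [Derivation.commutator_apply, Derivation.smul_apply,
    wDer_of_isWeightedHomogeneous hP, Derivation.map_smul] at h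
  rw [sub_eq_iff_eq_add] at h
  rw [h, ← add_smul]
  push_cast
  ring_nf

/-- A linear map shifting weights by `c` commutes with taking components. -/
lemma comp_comm (T : MvPolynomial σ k →ₗ[k] MvPolynomial σ k) (w : σ → ℤ) (c : ℤ)
    (hT : ∀ P μ, IsWeightedHomogeneous w P μ → IsWeightedHomogeneous w (T P) (μ + c))
    (P : MvPolynomial σ k) (μ : ℤ) :
    weightedHomogeneousComponent w (μ + c) (T P) = T (weightedHomogeneousComponent w μ P) := by
  classical
  induction P using MvPolynomial.induction_on' with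
  | monomial d a =>
    have hm := isWeightedHomogeneous_monomial w d a (m := Finsupp.weight w d) rfl
    by_cases hd : μ = Finsupp.weight w d
    · rw [hd, hm.weightedHomogeneousComponent_same, (hT _ _ hm).weightedHomogeneousComponent_same]
    · rw [hm.weightedHomogeneousComponent_ne _ hd, map_zero,
        (hT _ _ hm).weightedHomogeneousComponent_ne _ (by omega)]
  | add p q hp hq => simp only [map_add, hp, hq]

lemma eq_zero_of_wt_ne {w : σ → ℤ} {P : MvPolynomial σ k}
    (h : ∀ μ, weightedHomogeneousComponent w μ P = 0) : P = 0 := by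
  rw [← sum_weightedHomogeneousComponent w P]
  simp [h]

end Weights

/-- The weight of the degree. -/
abbrev deg1 (σ : Type v) : σ → ℤ := fun _ ↦ 1

/-- Data of a linear action of `sl₂` on a polynomial ring, diagonal on the variables. -/
structure Tri (k : Type u) [Field k] (σ : Type v) where
  /-- weights -/
  w : σ → ℤ
  /-- raising operator -/
  E : Derivation k (MvPolynomial σ k) (MvPolynomial σ k)
  /-- lowering operator -/
  F : Derivation k (MvPolynomial σ k) (MvPolynomial σ k)
  hEw : ∀ i, IsWeightedHomogeneous w (E (X i)) (w i + 2)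
  hFw : ∀ i, IsWeightedHomogeneous w (F (X i)) (w i + -2)
  hEd : ∀ i, IsWeightedHomogeneous (deg1 σ) (E (X i)) (1 + 0)
  hFd : ∀ i, IsWeightedHomogeneous (deg1 σ) (F (X i)) (1 + 0)
  hEF : ∀ i, E (F (X i)) - F (E (X i)) = (w i : k) • X i

namespace Tri

variable (T : Tri k σ)

/-- Interchange raising and lowering. -/
noncomputable def swap : Tri k σ where
  w i := -T.w i
  E := T.F
  F := T.E
  hEw i := fun d hd ↦ by
    have h := T.hFw i hd
    rw [Finsupp.weight_apply, Finsupp.sum] at h ⊢
    simp only [smul_neg, Finset.sum_neg_distrib] at h ⊢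
    omega
  hFw i := fun d hd ↦ by
    have h := T.hEw i hd
    rw [Finsupp.weight_apply, Finsupp.sum] at h ⊢
    simp only [smul_neg, Finset.sum_neg_distrib] at h ⊢
    omega
  hEd := T.hFd
  hFd := T.hEd
  hEF i := by
    rw [← neg_sub, T.hEF, Int.cast_neg, neg_smul]

/-- The Cartan operator. -/
noncomputable abbrev H : Derivation k (MvPolynomial σ k) (MvPolynomial σ k) := wDer T.w

lemma comm_EF (P : MvPolynomial σ k) : T.E (T.F P) = T.F (T.E P) + T.H P := by
  have h : ⁅T.E, T.F⁆ = T.H := derivation_ext fun i ↦ by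
    rw [Derivation.commutator_apply, T.hEF]; simp [H, wDer, mkDerivation_X]
  rw [← h, Derivation.commutator_apply]; abel

lemma comm_HE (P : MvPolynomial σ k) : T.H (T.E P) = T.E (T.H P) + (2 : k) • T.E P := by
  have h : ⁅T.H, T.E⁆ = (2 : k) • T.E := derivation_ext fun i ↦ by
    rw [Derivation.commutator_apply, wDer_of_isWeightedHomogeneous (T.hEw i), Derivation.smul_apply]
    rw [show T.H (X i) = (T.w i : k) • X i from mkDerivation_X k _ i, T.E.map_smul]
    rw [← sub_smul]; push_cast; ring_nf
  have h' := congrArg (fun D : Derivation k (MvPolynomial σ k) (MvPolynomial σ k) ↦ D P) h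
  simp only [Derivation.commutator_apply, Derivation.smul_apply] at h'
  rw [← h']; abel

lemma comm_HF (P : MvPolynomial σ k) : T.H (T.F P) = T.F (T.H P) - (2 : k) • T.F P := by
  have h := T.swap.comm_HE P
  simp only [H, swap, wDer_neg, map_neg] at h
  linear_combination (norm := module) (-1 : k) • h

/-- The Casimir operator. -/
noncomputable def C : Module.End k (MvPolynomial σ k) :=
  (2 : k) • (T.E.toLinearMap ∘ₗ T.F.toLinearMap + T.F.toLinearMap ∘ₗ T.E.toLinearMap) +
    T.H.toLinearMap ∘ₗ T.H.toLinearMap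

lemma C_apply (P : MvPolynomial σ k) :
    T.C P = (2 : k) • (T.E (T.F P) + T.F (T.E P)) + T.H (T.H P) := rfl

lemma swap_C : T.swap.C = T.C := LinearMap.ext fun P ↦ by
  simp only [C_apply, H, swap, wDer_neg, map_neg, neg_neg]
  rw [add_comm (T.F (T.E P))]

lemma C_comm_E (P : MvPolynomial σ k) : T.C (T.E P) = T.E (T.C P) := by
  simp only [C_apply, map_add, map_smul, Derivation.map_smul, T.comm_EF, T.comm_HE, smul_add, smul_smul]
  module

lemma C_comm_F (P : MvPolynomial σ k) : T.C (T.F P) = T.F (T.C P) := by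
  have h := T.swap.C_comm_E P
  rw [swap_C] at h
  exact h

variable [CharZero k]

lemma shift_E {P : MvPolynomial σ k} {μ : ℤ} (h : IsWeightedHomogeneous T.w P μ) :
    IsWeightedHomogeneous T.w (T.E P) (μ + 2) := shift_of_X T.E T.w 2 T.hEw h

lemma shift_F {P : MvPolynomial σ k} {μ : ℤ} (h : IsWeightedHomogeneous T.w P μ) :
    IsWeightedHomogeneous T.w (T.F P) (μ + -2) := shift_of_X T.F T.w (-2) T.hFw h

lemma deg_E {P : MvPolynomial σ k} {m : ℤ} (h : IsWeightedHomogeneous (deg1 σ) P m) :
    IsWeightedHomogeneous (deg1 σ) (T.E P) m := by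
  simpa using shift_of_X T.E (deg1 σ) 0 T.hEd h

lemma deg_F {P : MvPolynomial σ k} {m : ℤ} (h : IsWeightedHomogeneous (deg1 σ) P m) :
    IsWeightedHomogeneous (deg1 σ) (T.F P) m := by
  simpa using shift_of_X T.F (deg1 σ) 0 T.hFd h

lemma deg_H {P : MvPolynomial σ k} {m : ℤ} (h : IsWeightedHomogeneous (deg1 σ) P m) :
    IsWeightedHomogeneous (deg1 σ) (T.H P) m := by
  have h' := shift_of_X T.H (deg1 σ) 0 (fun i ↦ by
    rw [show T.H (X i) = (T.w i : k) • X i from mkDerivation_X k _ i, add_zero]
    exact (weightedHomogeneousSubmodule k (deg1 σ) _).smul_mem _ (isWeightedHomogeneous_X k _ i)) h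
  simpa using h'

lemma C_deg {P : MvPolynomial σ k} {m : ℤ} (h : IsWeightedHomogeneous (deg1 σ) P m) :
    IsWeightedHomogeneous (deg1 σ) (T.C P) m := by
  rw [C_apply]
  exact (weightedHomogeneousSubmodule k (deg1 σ) m).add_mem
    ((weightedHomogeneousSubmodule k (deg1 σ) m).smul_mem _
      ((weightedHomogeneousSubmodule k (deg1 σ) m).add_mem (T.deg_E (T.deg_F h)) (T.deg_F (T.deg_E h))))
    (T.deg_H (T.deg_H h))

lemma C_wt {P : MvPolynomial σ k} {μ : ℤ} (h : IsWeightedHomogeneous T.w P μ) :
    IsWeightedHomogeneous T.w (T.C P) μ := by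
  rw [C_apply]
  have h1 := T.shift_E (T.shift_F h)
  have h2 := T.shift_F (T.shift_E h)
  rw [neg_add_cancel_right] at h1
  rw [add_neg_cancel_right] at h2
  have h3 : IsWeightedHomogeneous T.w (T.H (T.H P)) μ := by
    rw [H, wDer_of_isWeightedHomogeneous h, Derivation.map_smul, wDer_of_isWeightedHomogeneous h]
    exact (weightedHomogeneousSubmodule k T.w μ).smul_mem _
      ((weightedHomogeneousSubmodule k T.w μ).smul_mem _ h)
  exact (weightedHomogeneousSubmodule k T.w μ).add_mem
    ((weightedHomogeneousSubmodule k T.w μ).smul_mem _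
      ((weightedHomogeneousSubmodule k T.w μ).add_mem h1 h2)) h3

lemma iter_E {P : MvPolynomial σ k} {μ : ℤ} (h : IsWeightedHomogeneous T.w P μ) :
    ∀ j : ℕ, IsWeightedHomogeneous T.w (T.E^[j] P) (μ + 2 * j) := fun j ↦ by
  induction j with
  | zero => simpa using h
  | succ j ih =>
    rw [Function.iterate_succ_apply']
    have := T.shift_E ih
    rwa [show μ + 2 * (j : ℤ) + 2 = μ + 2 * ((j + 1 : ℕ) : ℤ) by push_cast; ring] at this

lemma iter_E_deg {P : MvPolynomial σ k} {m : ℤ} (h : IsWeightedHomogeneous (deg1 σ) P m) :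
    ∀ j : ℕ, IsWeightedHomogeneous (deg1 σ) (T.E^[j] P) m := fun j ↦ by
  induction j with
  | zero => exact h
  | succ j ih => rw [Function.iterate_succ_apply']; exact T.deg_E ih

variable [Fintype σ]

/-- In a fixed degree the weights are bounded. -/
lemma exists_iter_E_eq_zero {P : MvPolynomial σ k} {μ m : ℤ} (h : IsWeightedHomogeneous T.w P μ)
    (hd : IsWeightedHomogeneous (deg1 σ) P m) : ∃ j : ℕ, T.E^[j] P = 0 := by
  set B : ℤ := ∑ i, |T.w i|
  refine ⟨(m * B - μ).toNat + 1, ?_⟩
  by_contra hne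
  obtain ⟨d, hd0⟩ := ne_zero_iff.mp hne
  have h1 := (T.iter_E h _) hd0
  have h2 := (T.iter_E_deg hd _) hd0
  rw [Finsupp.weight_apply, Finsupp.sum_fintype _ _ (fun i ↦ by simp)] at h1 h2
  simp only [nsmul_eq_mul, deg1, mul_one] at h1 h2
  have h3 : ∑ i, ((d i : ℕ) : ℤ) * T.w i ≤ m * B := by
    rw [← h2, Finset.sum_mul]
    refine Finset.sum_le_sum fun i _ ↦ ?_
    exact mul_le_mul_of_nonneg_left ((le_abs_self _).trans
      (Finset.single_le_sum (fun j _ ↦ abs_nonneg (T.w j)) (Finset.mem_univ i))) (by positivity)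
  omega

lemma E_iter_F {Q : MvPolynomial σ k} {ν : ℤ} (h : IsWeightedHomogeneous T.w Q ν) (hE : T.E Q = 0) :
    ∀ j : ℕ, T.E (T.F^[j + 1] Q) = (((j : k) + 1) * ((ν : k) - j)) • T.F^[j] Q := fun j ↦ by
  induction j with
  | zero =>
    simp [T.comm_EF, hE, wDer_of_isWeightedHomogeneous h, H]
  | succ j ih =>
    rw [Function.iterate_succ_apply' _ (j + 1), T.comm_EF, ih, Derivation.map_smul,
      ← Function.iterate_succ_apply' (⇑T.F)]
    have hw := T.swap.iter_E (P := Q) (μ := -ν) (fun d hd ↦ by
      have := h hd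
      rw [Finsupp.weight_apply, Finsupp.sum] at this ⊢
      simp only [swap, smul_neg, Finset.sum_neg_distrib]
      omega) (j + 1)
    have hH : T.H (T.F^[j + 1] Q) = ((ν : k) - 2 * ((j : k) + 1)) • T.F^[j + 1] Q := by
      have h' := wDer_of_isWeightedHomogeneous hw
      rw [show T.swap.w = fun i ↦ -T.w i from rfl, wDer_neg, neg_eq_iff_eq_neg, ← neg_smul] at h'
      rw [H, show T.swap.E = T.F from rfl] at *
      rw [h']
      congr 1
      push_cast
      ring
    rw [hH, ← add_smul]
    congr 1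
    push_cast
    ring

lemma primitive_nonneg {Q : MvPolynomial σ k} {ν m : ℤ} (h : IsWeightedHomogeneous T.w Q ν)
    (hd : IsWeightedHomogeneous (deg1 σ) Q m) (hE : T.E Q = 0) (hQ : Q ≠ 0) :
    ∃ n : ℕ, ν = n ∧ T.F^[n + 1] Q = 0 := by
  classical
  have hex : ∃ j : ℕ, T.F^[j] Q = 0 := by
    refine T.swap.exists_iter_E_eq_zero (μ := -ν) (fun d hd ↦ ?_) hd
    have := h hd
    rw [Finsupp.weight_apply, Finsupp.sum] at this ⊢
    simp only [swap, smul_neg, Finset.sum_neg_distrib]
    omega
  have h0 := Nat.find_spec hex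
  obtain ⟨n, hn⟩ : ∃ n, Nat.find hex = n + 1 := by
    refine Nat.exists_eq_succ_of_ne_zero fun h' ↦ hQ ?_
    rw [h'] at h0
    exact h0
  rw [hn] at h0
  have h1 := T.E_iter_F h hE n
  rw [h0, map_zero] at h1
  have h2 := (smul_eq_zero.mp h1.symm).resolve_right (Nat.find_min hex (by omega))
  refine ⟨n, ?_, h0⟩
  rcases mul_eq_zero.mp h2 with h3 | h3
  · exact absurd h3 (by exact_mod_cast Nat.succ_ne_zero n)
  · exact_mod_cast sub_eq_zero.mp h3

lemma C_pow_comm_E (N : ℕ) (P : MvPolynomial σ k) : (T.C ^ N) (T.E P) = T.E ((T.C ^ N) P) := by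
  induction N generalizing P with
  | zero => simp
  | succ N ih => rw [pow_succ, Module.End.mul_apply, C_comm_E, ih, Module.End.mul_apply]

/-- A weight vector killed by a power of the Casimir operator has weight at most zero, and is killed
by the raising operator if its weight is zero. -/
lemma ker_weight {P : MvPolynomial σ k} {μ m : ℤ} (h : IsWeightedHomogeneous T.w P μ)
    (hd : IsWeightedHomogeneous (deg1 σ) P m) {N : ℕ} (hN : (T.C ^ N) P = 0) (hP : P ≠ 0) :
    μ ≤ 0 ∧ (μ = 0 → T.E P = 0) := by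
  classical
  have hex := T.exists_iter_E_eq_zero h hd
  have h0 := Nat.find_spec hex
  obtain ⟨n, hn⟩ : ∃ n, Nat.find hex = n + 1 := by
    refine Nat.exists_eq_succ_of_ne_zero fun h' ↦ hP ?_
    rw [h'] at h0
    exact h0
  rw [hn, Function.iterate_succ_apply'] at h0
  set Q := T.E^[n] P with hQdef
  have hQ : Q ≠ 0 := Nat.find_min hex (by omega)
  have hQw := T.iter_E h n
  obtain ⟨j, hj, -⟩ := T.primitive_nonneg hQw (T.iter_E_deg hd n) h0 hQ
  have hCQ : T.C Q = ((j : k) * ((j : k) + 2)) • Q := by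
    rw [C_apply, T.comm_EF, h0, map_zero, zero_add, H, wDer_of_isWeightedHomogeneous hQw,
      Derivation.map_smul, wDer_of_isWeightedHomogeneous hQw, hj, add_zero, smul_smul, smul_smul, ← add_smul]
    push_cast; ring_nf
    rfl
  have hpow : ∀ M : ℕ, (T.C ^ M) Q = ((j : k) * ((j : k) + 2)) ^ M • Q := fun M ↦ by
    induction M with
    | zero => simp
    | succ M ih => rw [pow_succ', Module.End.mul_apply, ih, map_smul, hCQ, smul_smul, ← pow_succ]
  have hNQ : (T.C ^ N) Q = 0 := by
    have : ∀ i, (T.C ^ N) (T.E^[i] P) = T.E^[i] ((T.C ^ N) P) := fun i ↦ by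
      induction i with
      | zero => rfl
      | succ i ih => rw [Function.iterate_succ_apply', Function.iterate_succ_apply', C_pow_comm_E, ih]
    rw [hQdef, this, hN]
    exact Function.iterate_fixed (map_zero T.E) n
  rw [hpow] at hNQ
  have hj0 : (j : k) * ((j : k) + 2) = 0 := by
    have := (smul_eq_zero.mp hNQ).resolve_right hQ
    exact (pow_eq_zero_iff' .. |>.mp this).1
  have hj' : j = 0 := by
    rcases mul_eq_zero.mp hj0 with h' | h'
    · exact_mod_cast h'
    · exfalso
      have h2 : ((j + 2 : ℕ) : k) = 0 := by push_cast; exact h'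
      exact Nat.succ_ne_zero _ (Nat.cast_eq_zero.mp h2)
  subst hj'
  refine ⟨by push_cast at hj; omega, fun hμ ↦ ?_⟩
  have hn0 : n = 0 := by push_cast at hj; omega
  subst hn0
  exact h0

/-- Vectors of a fixed degree killed by a power of the Casimir operator are invariant. -/
theorem killed_of_ker {P : MvPolynomial σ k} {m : ℤ} (hd : IsWeightedHomogeneous (deg1 σ) P m)
    {N : ℕ} (hN : (T.C ^ N) P = 0) : T.E P = 0 ∧ T.F P = 0 := by
  classical
  have hcomp : ∀ μ, (T.C ^ N) (weightedHomogeneousComponent T.w μ P) = 0 := fun μ ↦ by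
    have hshift : ∀ (M : ℕ) (Q : MvPolynomial σ k) (ν : ℤ), IsWeightedHomogeneous T.w Q ν →
        IsWeightedHomogeneous T.w ((T.C ^ M) Q) (ν + 0) := fun M Q ν hQ ↦ by
      induction M with
      | zero => simpa using hQ
      | succ M ih => rw [pow_succ', Module.End.mul_apply, add_zero]; rw [add_zero] at ih; exact T.C_wt ih
    rw [← comp_comm (T.C ^ N) T.w 0 (hshift N) P μ, hN, map_zero]
  have hzero : ∀ μ, T.E (weightedHomogeneousComponent T.w μ P) = 0 ∧
      T.F (weightedHomogeneousComponent T.w μ P) = 0 := fun μ ↦ by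
    set Q := weightedHomogeneousComponent T.w μ P
    by_cases hQ : Q = 0
    · simp [hQ]
    have hQw : IsWeightedHomogeneous T.w Q μ := weightedHomogeneousComponent_isWeightedHomogeneous μ P
    have hQd : IsWeightedHomogeneous (deg1 σ) Q m := fun d hd' ↦ by
      rw [coeff_weightedHomogeneousComponent] at hd'
      split_ifs at hd' with h
      · exact hd hd'
      · exact absurd rfl hd'
    obtain ⟨h1, h1'⟩ := T.ker_weight hQw hQd (hcomp μ) hQ
    obtain ⟨h2, h2'⟩ := T.swap.ker_weight (μ := -μ) (fun d hd ↦ by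
      have := hQw hd
      rw [Finsupp.weight_apply, Finsupp.sum] at this ⊢
      simp only [swap, smul_neg, Finset.sum_neg_distrib]
      omega) hQd (N := N) (by rw [swap_C]; exact hcomp μ) hQ
    exact ⟨h1' (by omega), h2' (by omega)⟩
  constructor
  · refine eq_zero_of_wt_ne (w := T.w) fun μ ↦ ?_
    have h := comp_comm T.E.toLinearMap T.w 2 (fun _ _ h ↦ T.shift_E h) P (μ - 2)
    rw [sub_add_cancel] at h
    exact h.trans (hzero _).1
  · refine eq_zero_of_wt_ne (w := T.w) fun μ ↦ ?_
    have h := comp_comm T.F.toLinearMap T.w (-2) (fun _ _ h ↦ T.shift_F h) P (μ + 2)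
    rw [add_neg_cancel_right] at h
    exact h.trans (hzero _).2

/-- The invariants. -/
def inv : Subalgebra k (MvPolynomial σ k) where
  carrier := {P | T.E P = 0 ∧ T.F P = 0}
  mul_mem' := fun {a b} ha hb ↦ by
    constructor
    · rw [Derivation.leibniz, ha.1, hb.1, smul_zero, smul_zero, add_zero]
    · rw [Derivation.leibniz, ha.2, hb.2, smul_zero, smul_zero, add_zero]
  add_mem' := fun {a b} ha hb ↦ ⟨by rw [map_add, ha.1, hb.1, add_zero], by rw [map_add, ha.2, hb.2, add_zero]⟩
  algebraMap_mem' := fun r ↦ ⟨Derivation.map_algebraMap _ r, Derivation.map_algebraMap _ r⟩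

lemma C_mul_inv {a : MvPolynomial σ k} (ha : a ∈ T.inv) (g : MvPolynomial σ k) :
    T.C (g * a) = T.C g * a := by
  have hH : T.H a = 0 := by
    have := T.comm_EF a
    rwa [ha.1, ha.2, map_zero, map_zero, zero_add, eq_comm] at this
  simp only [C_apply, Derivation.leibniz, ha.1, ha.2, hH, smul_zero, zero_add, smul_eq_mul,
    map_mul, add_mul, smul_mul_assoc]
  simp only [map_zero, mul_zero, zero_add, add_zero]
  rw [Algebra.smul_def, Algebra.smul_def]
  simp only [Derivation.leibniz, ha.1, ha.2, hH, smul_zero, smul_eq_mul, mul_zero, zero_add, add_zero]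
  ring

/-- The invariants form a finitely generated algebra. -/
theorem inv_fg : T.inv.FG := by
  classical
  let s : Set (MvPolynomial σ k) :=
    {a | a ∈ T.inv ∧ ∃ m : ℕ, 0 < m ∧ IsWeightedHomogeneous (deg1 σ) a (m : ℤ)}
  obtain ⟨t, hts, ht⟩ := (Submodule.fg_span_iff_fg_span_finset_subset s).mp
    (IsNoetherian.noetherian (Ideal.span s : Ideal (MvPolynomial σ k)))
  refine ⟨t, le_antisymm (Algebra.adjoin_le fun a ha ↦ (hts ha).1) ?_⟩
  have key : ∀ m : ℕ, ∀ f, f ∈ T.inv → IsWeightedHomogeneous (deg1 σ) f (m : ℤ) →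
      f ∈ Algebra.adjoin k (t : Set (MvPolynomial σ k)) := by
    intro m
    induction m using Nat.strong_induction_on with
    | _ m ih =>
    intro f hf hfd
    rcases Nat.eq_zero_or_pos m with rfl | hm
    · have : f = MvPolynomial.C (coeff 0 f) := by
        ext d
        rw [coeff_C]
        split_ifs with h
        · rw [h]
        · by_contra hne
          have hw := hfd hne
          rw [Finsupp.weight_apply, Finsupp.sum] at hw
          refine h (Finsupp.ext fun i ↦ ?_).symm
          by_contra hi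
          have hpos : 0 < ∑ i ∈ d.support, d i • (1 : ℤ) :=
            Finset.sum_pos (fun i hi ↦ by simpa using Nat.pos_of_ne_zero (Finsupp.mem_support_iff.mp hi))
              ⟨i, Finsupp.mem_support_iff.mpr hi⟩
          simp only [deg1] at hw
          omega
      rw [this, ← MvPolynomial.algebraMap_eq]
      exact Subalgebra.algebraMap_mem _ _
    have hfs : f ∈ Submodule.span (MvPolynomial σ k) (t : Set (MvPolynomial σ k)) := by
      have : f ∈ (Ideal.span s : Ideal (MvPolynomial σ k)) := Submodule.subset_span ⟨hf, m, hm, hfd⟩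
      rwa [← ht]
    obtain ⟨g, -, hg⟩ := Submodule.mem_span_finset.mp hfs
    have hdeg : ∀ a : MvPolynomial σ k, ∃ da : ℕ, a ∈ t → 0 < da ∧ IsWeightedHomogeneous (deg1 σ) a (da : ℤ) :=
      fun a ↦ by
        by_cases ha : a ∈ t
        · obtain ⟨-, da, h1, h2⟩ := hts ha; exact ⟨da, fun _ ↦ ⟨h1, h2⟩⟩
        · exact ⟨0, fun h ↦ absurd h ha⟩
    choose da hda using hdeg
    let g' := fun a ↦ weightedHomogeneousComponent (deg1 σ) ((m : ℤ) - da a) (g a)
    have hsum : f = ∑ a ∈ t, g' a * a := by
      rw [← hfd.weightedHomogeneousComponent_same, ← hg, map_sum]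
      refine Finset.sum_congr rfl fun a ha ↦ ?_
      have h := comp_comm (LinearMap.mulRight k a) (deg1 σ) (da a)
        (fun P μ hP ↦ hP.mul (hda a ha).2) (g a) ((m : ℤ) - da a)
      rw [sub_add_cancel] at h
      simpa [g', smul_eq_mul] using h
    -- Fitting decomposition in each degree
    let Vd := fun j : ℤ ↦ weightedHomogeneousSubmodule k (deg1 σ) j
    have hfin : ∀ j, FiniteDimensional k (Vd j) := fun j ↦ by
      refine Submodule.finiteDimensional_of_le (S₂ := restrictTotalDegree σ k j.toNat) fun P hP ↦ ?_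
      rw [mem_restrictTotalDegree]
      refine Finset.sup_le ?_
      intro d hd
      have hw := hP (mem_support_iff.mp hd)
      rw [Finsupp.weight_apply, Finsupp.sum] at hw
      rw [Finsupp.sum]
      have : ((∑ i ∈ d.support, d i : ℕ) : ℤ) = j := by
        rw [← hw]; push_cast; simp
      omega
    let Cd := fun j : ℤ ↦ T.C.restrict (p := Vd j) (q := Vd j) fun P hP ↦ T.C_deg hP
    have hev : ∀ j, ∀ᶠ N in Filter.atTop, IsCompl (LinearMap.ker (Cd j ^ N)) (LinearMap.range (Cd j ^ N)) :=
      fun j ↦ by haveI := hfin j; exact (Cd j).eventually_isCompl_ker_pow_range_pow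
    obtain ⟨N, hN1, hNm, hN⟩ := ((Filter.eventually_ge_atTop 1).and ((hev m).and
      ((Finset.eventually_all t).mpr fun a _ ↦ hev ((m : ℤ) - da a)))).exists
    have hpow : ∀ (j : ℤ) (x : Vd j), (((Cd j ^ N) x : Vd j) : MvPolynomial σ k) = (T.C ^ N) x :=
      fun j x ↦ by
        clear hN1 hNm hN
        induction N with
        | zero => simp
        | succ N ih => rw [pow_succ', Module.End.mul_apply, pow_succ', Module.End.mul_apply]; exact congrArg T.C ih
    have hsplit : ∀ a, ∃ p q : MvPolynomial σ k, a ∈ t → IsWeightedHomogeneous (deg1 σ) p ((m : ℤ) - da a) ∧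
        IsWeightedHomogeneous (deg1 σ) q ((m : ℤ) - da a) ∧ (T.C ^ N) p = 0 ∧ g' a = p + (T.C ^ N) q :=
      fun a ↦ by
        by_cases ha : a ∈ t
        swap
        · exact ⟨0, 0, fun h ↦ absurd h ha⟩
        let x : Vd ((m : ℤ) - da a) := ⟨g' a, weightedHomogeneousComponent_mem _ _ _⟩
        have hx : x ∈ LinearMap.ker (Cd _ ^ N) ⊔ LinearMap.range (Cd _ ^ N) := by
          rw [(hN a ha).sup_eq_top]; trivial
        obtain ⟨p, hp, _, ⟨q, rfl⟩, hpq⟩ := Submodule.mem_sup.mp hx
        refine ⟨p, q, fun _ ↦ ⟨p.2, q.2, ?_, ?_⟩⟩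
        · rw [← hpow, LinearMap.mem_ker.mp hp, Submodule.coe_zero]
        · rw [← hpow, ← Submodule.coe_add, hpq]
    choose p q hpq using hsplit
    have hCmul : ∀ a ∈ t, ∀ (M : ℕ) (P : MvPolynomial σ k), (T.C ^ M) (P * a) = (T.C ^ M) P * a := by
      intro a ha M
      induction M with
      | zero => intro P; simp
      | succ M ih => intro P; rw [pow_succ', Module.End.mul_apply, ih, T.C_mul_inv (hts ha).1, Module.End.mul_apply]
    have hadd : ∀ (P Q : MvPolynomial σ k) (j : ℤ), IsWeightedHomogeneous (deg1 σ) P j →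
        ∀ (i : ℕ), IsWeightedHomogeneous (deg1 σ) Q i → IsWeightedHomogeneous (deg1 σ) (P * Q) (j + i) :=
      fun P Q j hP i hQ ↦ hP.mul hQ
    let z : Vd m := ⟨∑ a ∈ t, q a * a, sum_mem fun a ha ↦ by
      have := hadd _ _ _ (hpq a ha).2.1 _ (hda a ha).2
      rwa [sub_add_cancel] at this⟩
    have hfC : (T.C ^ N) f = 0 := by
      have hC0 : T.C f = 0 := by
        rw [C_apply, hf.2, hf.1, map_zero, map_zero]
        have : T.H f = 0 := by
          have := T.comm_EF f
          rwa [hf.1, hf.2, map_zero, map_zero, zero_add, eq_comm] at this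
        rw [this, map_zero, add_zero, add_zero, smul_zero]
      obtain ⟨N', rfl⟩ := Nat.exists_eq_succ_of_ne_zero (show N ≠ 0 by omega)
      rw [pow_succ, Module.End.mul_apply, hC0, map_zero]
    have hz : (Cd m ^ N) z = 0 := by
      have hker : (Cd m ^ N) z ∈ LinearMap.ker (Cd m ^ N) := by
        rw [LinearMap.mem_ker]
        apply Subtype.ext
        rw [hpow, hpow, Submodule.coe_zero]
        have : (T.C ^ N) (z : MvPolynomial σ k) = f - ∑ a ∈ t, p a * a := by
          rw [hsum, ← Finset.sum_sub_distrib]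
          show (T.C ^ N) (∑ a ∈ t, q a * a) = _
          rw [map_sum]
          exact Finset.sum_congr rfl fun a ha ↦ by
            rw [hCmul a ha, (hpq a ha).2.2.2]; ring
        rw [this, map_sub, hfC, map_sum, zero_sub, neg_eq_zero]
        exact Finset.sum_eq_zero fun a ha ↦ by rw [hCmul a ha, (hpq a ha).2.2.1, zero_mul]
      exact Submodule.disjoint_def.mp hNm.disjoint _ hker ⟨z, rfl⟩
    have hf' : f = ∑ a ∈ t, p a * a := by
      have h := hpow m z
      rw [hz, Submodule.coe_zero] at h
      rw [hsum, ← sub_eq_zero, ← Finset.sum_sub_distrib, h]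
      show _ = (T.C ^ N) (∑ a ∈ t, q a * a)
      rw [map_sum]
      exact Finset.sum_congr rfl fun a ha ↦ by
        rw [hCmul a ha, (hpq a ha).2.2.2]; ring
    rw [hf']
    refine sum_mem fun a ha ↦ ?_
    have hpa := hpq a ha
    by_cases hlt : (m : ℤ) - da a < 0
    · have hp0 : p a = 0 := by
        ext d
        rw [coeff_zero]
        by_contra hne
        have hw := hpa.1 hne
        rw [Finsupp.weight_apply, Finsupp.sum] at hw
        have hnn : (0 : ℤ) ≤ ∑ i ∈ d.support, d i • deg1 σ i :=
          Finset.sum_nonneg fun i _ ↦ by simp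
        omega
      rw [hp0, zero_mul]
      exact zero_mem _
    obtain ⟨i, hi⟩ : ∃ i : ℕ, (m : ℤ) - da a = i := ⟨((m : ℤ) - da a).toNat, by omega⟩
    exact mul_mem (ih i (by have := (hda a ha).1; omega) _ (T.killed_of_ker hpa.1 hpa.2.2.1)
      (hi ▸ hpa.1)) (Algebra.subset_adjoin ha)
  intro f hf
  have hsum := sum_weightedHomogeneousComponent (deg1 σ) f
  rw [← hsum, finsum_eq_sum _ (weightedHomogeneousComponent_finsupp f)]
  refine sum_mem fun j _ ↦ ?_
  set fj := weightedHomogeneousComponent (deg1 σ) j f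
  have hfj : IsWeightedHomogeneous (deg1 σ) fj j := weightedHomogeneousComponent_isWeightedHomogeneous j f
  by_cases hj : j < 0
  · have : fj = 0 := by
      ext d
      rw [coeff_zero]
      by_contra hne
      have hw := hfj hne
      rw [Finsupp.weight_apply, Finsupp.sum] at hw
      have hnn : (0 : ℤ) ≤ ∑ i ∈ d.support, d i • deg1 σ i :=
        Finset.sum_nonneg fun i _ ↦ by simp
      omega
    rw [this]
    exact zero_mem _
  obtain ⟨i, rfl⟩ : ∃ i : ℕ, j = i := ⟨j.toNat, by omega⟩
  refine key i fj ⟨?_, ?_⟩ hfj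
  · have h := comp_comm T.E.toLinearMap (deg1 σ) 0 (fun P μ hP ↦ by simpa using T.deg_E hP) f (i : ℤ)
    rw [add_zero] at h
    show T.E.toLinearMap fj = 0
    rw [← h]
    show weightedHomogeneousComponent (deg1 σ) (i : ℤ) (T.E f) = 0
    rw [hf.1, map_zero]
  · have h := comp_comm T.F.toLinearMap (deg1 σ) 0 (fun P μ hP ↦ by simpa using T.deg_F hP) f (i : ℤ)
    rw [add_zero] at h
    show T.F.toLinearMap fj = 0
    rw [← h]
    show weightedHomogeneousComponent (deg1 σ) (i : ℤ) (T.F f) = 0
    rw [hf.2, map_zero]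

end Tri

end Groth.L11.Weitzenbock
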