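import Groth.Agent.L11.Weitzenbock.Chains
import Groth.Agent.L11.Weitzenbock.Sl2
import Mathlib.LinearAlgebra.Matrix.ToLin
import Mathlib.Data.Nat.Factorial.Basic

/-!
# Weitzenböck's theorem
-/

set_option autoImplicit false

open MvPolynomial

namespace Groth.L11.Weitzenbock

universe u v

variable {k : Type u} [Field k] [CharZero k]

/-- Completing a highest weight vector by the standard representation. -/
lemma exists_invariant_lift {σ : Type v} [Fintype σ] (T : Tri k σ) (x y : MvPolynomial σ k)
    (hEx : T.E x = 0) (hEy : T.E y = x) (hFx : T.F x = y) (hFy : T.F y = 0)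
    {g : MvPolynomial σ k} {μ m : ℤ} (hg : IsWeightedHomogeneous T.w g μ)
    (hd : IsWeightedHomogeneous (deg1 σ) g m) (hE : T.E g = 0)
    {A : Type*} [CommRing A] [Algebra k A] (φ : MvPolynomial σ k →ₐ[k] A) (hx : φ x = 0) (hy : φ y = 1) :
    ∃ P ∈ T.inv, φ P = φ g := by
  by_cases hg0 : g = 0
  · exact ⟨0, T.inv.zero_mem, by rw [hg0]⟩
  obtain ⟨n, rfl, hFn⟩ := T.primitive_nonneg hg hd hE hg0
  let c : ℕ → k := fun j ↦ (-1) ^ j / (j.factorial : k)
  have hc : ∀ j, c (j + 1) * ((j : k) + 1) = -c j := fun j ↦ by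
    have h1 : (j.factorial : k) ≠ 0 := Nat.cast_ne_zero.mpr j.factorial_ne_zero
    have h2 : ((j : k) + 1) ≠ 0 := Nat.cast_add_one_ne_zero j
    simp only [c, Nat.factorial_succ, Nat.cast_mul, Nat.cast_add, Nat.cast_one, pow_succ]
    field_simp
  let term : ℕ → MvPolynomial σ k := fun j ↦ c j • (T.F^[j] g * x ^ j * y ^ (n - j))
  refine ⟨∑ j ∈ Finset.range (n + 1), term j, ⟨?_, ?_⟩, ?_⟩
  · rw [map_sum]
    let B : ℕ → MvPolynomial σ k := fun j ↦ match j with
      | 0 => 0
      | i + 1 => (c i * ((n : k) - i)) • (T.F^[i] g * x ^ (i + 1) * y ^ (n - i - 1))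
    have hterm : ∀ j ∈ Finset.range (n + 1), T.E (term j) = B (j + 1) - B j := fun j hj ↦ by
      rw [Finset.mem_range] at hj
      obtain ⟨r, rfl⟩ : ∃ r, n = j + r := ⟨n - j, by omega⟩
      rcases j with _ | i
      · simp only [term, B, Derivation.map_smul, Derivation.leibniz, Derivation.leibniz_pow, hEx, hEy,
          Function.iterate_zero_apply, hE, smul_eq_mul, nsmul_eq_mul, mul_zero, zero_add, add_zero,
          pow_zero, mul_one, Nat.zero_add, Nat.sub_zero, sub_zero, pow_one]
        simp only [MvPolynomial.smul_eq_C_mul, map_mul, map_natCast, map_sub, map_zero]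
        push_cast
        ring
      · have hEF := T.E_iter_F hg hE i
        have hci : c i = -(c (i + 1) * ((i : k) + 1)) := by rw [hc, neg_neg]
        simp only [term, B, Derivation.map_smul, Derivation.leibniz, Derivation.leibniz_pow, hEx, hEy, hEF,
          smul_eq_mul, nsmul_eq_mul, mul_zero, zero_add, add_zero, hci,
          show i + 1 + r - (i + 1) = r by omega, show i + 1 + r - i - 1 = r by omega]
        simp only [MvPolynomial.smul_eq_C_mul, map_mul, map_neg, map_sub, map_add, map_natCast, map_one]
        push_cast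
        simp only [map_add, map_one, map_natCast]
        ring
    rw [Finset.sum_congr rfl hterm, Finset.sum_range_sub B]
    simp [B]
  · rw [map_sum]
    let D : ℕ → MvPolynomial σ k := fun j ↦
      (c j * (j : k)) • (T.F^[j] g * x ^ (j - 1) * y ^ (n - j + 1))
    have hterm : ∀ j ∈ Finset.range (n + 1), T.F (term j) = D j - D (j + 1) := fun j hj ↦ by
      rw [Finset.mem_range] at hj
      have hlast : D (j + 1) = -(c j • (T.F^[j + 1] g * x ^ j * y ^ (n - j))) := by
        rcases Nat.lt_or_ge j n with h | h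
        · simp only [D, Nat.cast_add, Nat.cast_one, hc, Nat.add_sub_cancel, neg_smul,
            show n - (j + 1) + 1 = n - j by omega]
        · obtain rfl : j = n := by omega
          simp [D, hFn]
      rw [hlast, sub_neg_eq_add]
      simp only [term, D, Derivation.map_smul, Derivation.leibniz, Derivation.leibniz_pow, hFx, hFy,
        smul_eq_mul, nsmul_eq_mul, mul_zero, zero_add, ← Function.iterate_succ_apply' (⇑T.F)]
      simp only [MvPolynomial.smul_eq_C_mul, map_mul, map_natCast, pow_succ]
      ring
    rw [Finset.sum_congr rfl hterm, Finset.sum_range_sub' D]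
    simp [D, hFn]
  · rw [map_sum, Finset.sum_eq_single 0]
    · simp [term, c, hy]
    · intro j _ hj
      simp [term, hx, zero_pow hj]
    · simp

/-- Weitzenböck: the constants of a nilpotent linear derivation are finitely generated. -/
theorem exists_fg_ker (n : ℕ) (M : Matrix (Fin n) (Fin n) k) (hM : IsNilpotent M) :
    ∃ S : Subalgebra k (MvPolynomial (Fin n) k), S.FG ∧
      ∀ f : MvPolynomial (Fin n) k, f ∈ S ↔
        mkDerivation k (fun j : Fin n => ∑ i : Fin n, M i j • (X i : MvPolynomial (Fin n) k)) f = 0 := by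
  classical
  set δ := mkDerivation k (fun j : Fin n => ∑ i : Fin n, M i j • (X i : MvPolynomial (Fin n) k))
  let e : Module.End k (Fin n → k) := Matrix.toLinAlgEquiv' M
  have he : IsNilpotent e := hM.map (Matrix.toLinAlgEquiv' : Matrix (Fin n) (Fin n) k ≃ₐ[k] _)
  obtain ⟨ι, _, _, b, w, f, h1, h2, h3⟩ := exists_triple _ (Fin n → k) e he le_rfl
  let L : (Fin n → k) →ₗ[k] MvPolynomial (Fin n) k := Fintype.linearCombination k fun i ↦ X i
  have hδL : ∀ v, δ (L v) = L (e v) := fun v ↦ by
    have : δ.toLinearMap ∘ₗ L = L ∘ₗ e := (Pi.basisFun k (Fin n)).ext fun j ↦ by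
      simp only [LinearMap.comp_apply, Pi.basisFun_apply, L, e, δ, Fintype.linearCombination_apply_single,
        one_smul]
      rw [show (Derivation.toLinearMap (mkDerivation k fun j : Fin n => ∑ i : Fin n, M i j • (X i : MvPolynomial (Fin n) k))) (X j)
        = mkDerivation k (fun j : Fin n => ∑ i : Fin n, M i j • (X i : MvPolynomial (Fin n) k)) (X j) from rfl,
        mkDerivation_X, Fintype.linearCombination_apply]
      simp
    exact LinearMap.congr_fun this v
  let σ := ι ⊕ Fin 2
  let L' : (Fin n → k) →ₗ[k] MvPolynomial σ k := b.constr k fun i ↦ X (Sum.inl i)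
  let W : σ → ℤ := Sum.elim w ![1, -1]
  have hL'w : ∀ (v : Fin n → k) (μ : ℤ), (∀ j, b.repr v j ≠ 0 → w j = μ) →
      IsWeightedHomogeneous W (L' v) μ := fun v μ hv ↦ by
    rw [show L' v = ∑ j, b.repr v j • X (Sum.inl j) by simp [L', Module.Basis.constr_apply_fintype]]
    refine (weightedHomogeneousSubmodule k W μ).sum_mem fun j _ ↦ ?_
    by_cases hj : b.repr v j = 0
    · rw [hj, zero_smul]; exact Submodule.zero_mem _
    · exact (weightedHomogeneousSubmodule k W μ).smul_mem _
        (hv j hj ▸ isWeightedHomogeneous_X k W (Sum.inl j))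
  have hL'd : ∀ v : Fin n → k, IsWeightedHomogeneous (deg1 σ) (L' v) (1 + 0) := fun v ↦ by
    rw [show L' v = ∑ j, b.repr v j • X (Sum.inl j) by simp [L', Module.Basis.constr_apply_fintype], add_zero]
    exact (weightedHomogeneousSubmodule k (deg1 σ) 1).sum_mem fun j _ ↦
      (weightedHomogeneousSubmodule k (deg1 σ) 1).smul_mem _ (isWeightedHomogeneous_X k _ _)
  let E : Derivation k (MvPolynomial σ k) (MvPolynomial σ k) :=
    mkDerivation k (Sum.elim (fun i ↦ L' (e (b i))) ![0, X (Sum.inr 0)])
  let F : Derivation k (MvPolynomial σ k) (MvPolynomial σ k) :=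
    mkDerivation k (Sum.elim (fun i ↦ L' (f (b i))) ![X (Sum.inr 1), 0])
  have hEL : ∀ v, E (L' v) = L' (e v) := fun v ↦ by
    have : E.toLinearMap ∘ₗ L' = L' ∘ₗ e := b.ext fun i ↦ by
      simp only [LinearMap.comp_apply, L', Module.Basis.constr_basis]
      exact mkDerivation_X k _ _
    exact LinearMap.congr_fun this v
  have hFL : ∀ v, F (L' v) = L' (f v) := fun v ↦ by
    have : F.toLinearMap ∘ₗ L' = L' ∘ₗ f := b.ext fun i ↦ by
      simp only [LinearMap.comp_apply, L', Module.Basis.constr_basis]
      exact mkDerivation_X k _ _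
    exact LinearMap.congr_fun this v
  let T : Tri k σ :=
    { w := W
      E := E
      F := F
      hEw := by
        rintro (i | i)
        · simp only [E, mkDerivation_X, Sum.elim_inl]
          exact hL'w _ _ fun j hj ↦ h2 i j hj
        · fin_cases i <;> simp only [E, mkDerivation_X, Sum.elim_inr]
          · exact isWeightedHomogeneous_zero k W _
          · simpa [W] using isWeightedHomogeneous_X k W (Sum.inr 0)
      hFw := by
        rintro (i | i)
        · simp only [F, mkDerivation_X, Sum.elim_inl]
          exact hL'w _ _ fun j hj ↦ by rw [h3 i j hj]; rfl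
        · fin_cases i <;> simp only [F, mkDerivation_X, Sum.elim_inr]
          · simpa [W] using isWeightedHomogeneous_X k W (Sum.inr 1)
          · exact isWeightedHomogeneous_zero k W _
      hEd := by
        rintro (i | i)
        · simp only [E, mkDerivation_X, Sum.elim_inl]
          exact hL'd _
        · fin_cases i <;> simp only [E, mkDerivation_X, Sum.elim_inr]
          · exact isWeightedHomogeneous_zero k (deg1 σ) _
          · simpa using isWeightedHomogeneous_X k (deg1 σ) (Sum.inr 0)
      hFd := by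
        rintro (i | i)
        · simp only [F, mkDerivation_X, Sum.elim_inl]
          exact hL'd _
        · fin_cases i <;> simp only [F, mkDerivation_X, Sum.elim_inr]
          · simpa using isWeightedHomogeneous_X k (deg1 σ) (Sum.inr 1)
          · exact isWeightedHomogeneous_zero k (deg1 σ) _
      hEF := by
        rintro (i | i)
        · rw [show F (X (Sum.inl i)) = L' (f (b i)) from mkDerivation_X k _ _,
            show E (X (Sum.inl i)) = L' (e (b i)) from mkDerivation_X k _ _, hEL, hFL, ← map_sub, h1]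
          simp [L', W]
        · fin_cases i <;> simp [E, F, W, mkDerivation_X] }
  let φ : MvPolynomial σ k →ₐ[k] MvPolynomial (Fin n) k := aeval (Sum.elim (fun i ↦ L (b i)) ![0, 1])
  let ψ : MvPolynomial (Fin n) k →ₐ[k] MvPolynomial σ k := aeval fun j ↦ L' (Pi.single j 1)
  have hφL : ∀ v, φ (L' v) = L v := fun v ↦ by
    have : φ.toLinearMap ∘ₗ L' = L := b.ext fun i ↦ by simp [φ, L']
    exact LinearMap.congr_fun this v
  have hLsingle : ∀ j, L (Pi.single j 1) = X j := fun j ↦ by simp [L]
  have hψL : ∀ v, ψ (L v) = L' v := fun v ↦ by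
    have : ψ.toLinearMap ∘ₗ L = L' := (Pi.basisFun k (Fin n)).ext fun i ↦ by simp [ψ, L]
    exact LinearMap.congr_fun this v
  have hφψ : ∀ p, φ (ψ p) = p := fun p ↦ by
    have : φ.comp ψ = AlgHom.id k _ := algHom_ext fun j ↦ by
      rw [AlgHom.comp_apply, AlgHom.id_apply, ← hLsingle, hψL, hφL]
    exact AlgHom.congr_fun this p
  have hφE : ∀ p, φ (E p) = δ (φ p) := fun p ↦ by
    induction p using MvPolynomial.induction_on with
    | C r => simp [E, δ, φ]
    | add p q hp hq => simp only [map_add, hp, hq]
    | mul_X p i hp =>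
      have hX : φ (E (X i)) = δ (φ (X i)) := by
        rcases i with i | i
        · rw [show E (X (Sum.inl i)) = L' (e (b i)) from mkDerivation_X k _ _, hφL,
            show φ (X (Sum.inl i)) = L (b i) by simp [φ], hδL]
        · fin_cases i <;> simp [E, φ, mkDerivation_X]
      simp only [Derivation.leibniz, map_mul, map_add, smul_eq_mul, hp, hX]
  have hψδ : ∀ p, ψ (δ p) = E (ψ p) := fun p ↦ by
    induction p using MvPolynomial.induction_on with
    | C r => simp [E, δ, ψ]
    | add p q hp hq => simp only [map_add, hp, hq]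
    | mul_X p i hp =>
      have hX : ψ (δ (X i)) = E (ψ (X i)) := by rw [← hLsingle, hδL, hψL, hψL, hEL]
      simp only [Derivation.leibniz, map_mul, map_add, smul_eq_mul, hp, hX]
  refine ⟨T.inv.map φ, (T.inv_fg).map φ, fun p ↦ ⟨?_, fun hp ↦ ?_⟩⟩
  · rintro ⟨P, hP, rfl⟩
    show δ (φ P) = 0
    rw [← hφE, show E P = 0 from hP.1, map_zero]
  rw [← hφψ p]
  set g := ψ p with hg
  have hEg : E g = 0 := by rw [hg, ← hψδ, hp, map_zero]
  rw [← sum_weightedHomogeneousComponent (deg1 σ) g, finsum_eq_sum _ (weightedHomogeneousComponent_finsupp g),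
    map_sum]
  refine sum_mem fun m _ ↦ ?_
  set gm := weightedHomogeneousComponent (deg1 σ) m g
  rw [← sum_weightedHomogeneousComponent W gm, finsum_eq_sum _ (weightedHomogeneousComponent_finsupp gm),
    map_sum]
  refine sum_mem fun μ _ ↦ ?_
  set gmu := weightedHomogeneousComponent W μ gm
  have hgm : IsWeightedHomogeneous (deg1 σ) gm m := weightedHomogeneousComponent_isWeightedHomogeneous m g
  have hd : IsWeightedHomogeneous (deg1 σ) gmu m := fun d hd' ↦ by
    rw [coeff_weightedHomogeneousComponent] at hd'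
    split_ifs at hd' with h
    · exact hgm hd'
    · exact absurd rfl hd'
  have hEgm : E gm = 0 := by
    have h := comp_comm T.E.toLinearMap (deg1 σ) 0 (fun P j hP ↦ by simpa using T.deg_E hP) g m
    rw [add_zero] at h
    show T.E.toLinearMap gm = 0
    rw [← h]
    show weightedHomogeneousComponent (deg1 σ) m (E g) = 0
    rw [hEg, map_zero]
  have hEgmu : T.E gmu = 0 := by
    have h := comp_comm T.E.toLinearMap W 2 (fun _ _ hP ↦ T.shift_E hP) gm μ
    show T.E.toLinearMap gmu = 0
    rw [← h]
    show weightedHomogeneousComponent W (μ + 2) (E gm) = 0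
    rw [hEgm, map_zero]
  obtain ⟨P, hP, hφP⟩ := exists_invariant_lift T (X (Sum.inr 0)) (X (Sum.inr 1))
    (by simp [T, E, mkDerivation_X]) (by simp [T, E, mkDerivation_X]) (by simp [T, F, mkDerivation_X])
    (by simp [T, F, mkDerivation_X]) (weightedHomogeneousComponent_isWeightedHomogeneous μ gm) hd hEgmu φ
    (by simp [φ]) (by simp [φ])
  exact ⟨P, hP, hφP⟩

end Groth.L11.Weitzenbock
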